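import Mathlib

/-! Flat base change of a subquotient. -/

set_option autoImplicit false

universe u v w x

open TensorProduct

namespace Groth.Hoch71

variable {K : Type u} [CommRing K] {R : Type w} [CommRing R] [Algebra K R] [Module.Flat K R]
  {C : Type v} [AddCommGroup C] [Module K C] {C' : Type x} [AddCommGroup C'] [Module R C']
  (e : R ⊗[K] C ≃ₗ[R] C') (Z B : Submodule K C) (Z' B' : Submodule R C')

theorem exists_subquotient_equiv (hZ : ∀ y, y ∈ Z' ↔ ∃ t : R ⊗[K] Z, e (Z.subtype.lTensor R t) = y)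
    (hB : ∀ y, y ∈ B' ↔ ∃ t : R ⊗[K] B, e (B.subtype.lTensor R t) = y) :
    ∃ E : R ⊗[K] (Z ⧸ B.comap Z.subtype) ≃ₗ[R] (Z' ⧸ B'.comap Z'.subtype),
      ∀ (r : R) (z : Z) (hz : e (r ⊗ₜ (z : C)) ∈ Z'),
        E (r ⊗ₜ (B.comap Z.subtype).mkQ z) = (B'.comap Z'.subtype).mkQ ⟨e (r ⊗ₜ (z : C)), hz⟩ := by
  let g : R ⊗[K] Z →ₗ[R] Z' :=
    (e.toLinearMap ∘ₗ Z.subtype.baseChange R).codRestrict Z' fun t => (hZ _).2 ⟨t, rfl⟩
  let G := (B'.comap Z'.subtype).mkQ ∘ₗ g
  let q : R ⊗[K] Z →ₗ[R] R ⊗[K] (Z ⧸ B.comap Z.subtype) := (B.comap Z.subtype).mkQ.baseChange R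
  have hq : Function.Surjective q := LinearMap.lTensor_surjective R (Submodule.mkQ_surjective _)
  have hB2 : ∀ w : R ⊗[K] C, e w ∈ B' ↔ B.mkQ.lTensor R w = 0 := by
    intro w
    rw [hB, lTensor_exact R (LinearMap.exact_subtype_mkQ B) (Submodule.mkQ_surjective B) w]
    exact ⟨fun ⟨t, ht⟩ => ⟨t, e.injective ht⟩, fun ⟨t, ht⟩ => ⟨t, congrArg e ht⟩⟩
  let j : (Z ⧸ B.comap Z.subtype) →ₗ[K] C ⧸ B := Submodule.mapQ _ _ Z.subtype le_rfl
  have hj : Function.Injective j := by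
    rw [← LinearMap.ker_eq_bot]
    refine Submodule.ker_liftQ_eq_bot _ _ _ fun z hz => ?_
    simpa using hz
  have hjR : Function.Injective (j.lTensor R) := Module.Flat.lTensor_preserves_injective_linearMap j hj
  have hker : LinearMap.ker q = LinearMap.ker G := by
    ext t
    have : j.lTensor R (q t) = B.mkQ.lTensor R (Z.subtype.lTensor R t) := by
      induction t using TensorProduct.induction_on with
      | zero => simp
      | tmul r z => simp [q, j]
      | add s t hs ht => simp only [map_add, hs, ht]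
    rw [LinearMap.mem_ker, LinearMap.mem_ker, ← hjR.eq_iff, this, map_zero, ← hB2]
    simp only [G, LinearMap.comp_apply, Submodule.mkQ_apply, Submodule.Quotient.mk_eq_zero]
    rfl
  have hG : Function.Surjective G := by
    intro y
    obtain ⟨⟨y, hy⟩, rfl⟩ := Submodule.mkQ_surjective _ y
    obtain ⟨t, ht⟩ := (hZ y).1 hy
    exact ⟨t, congrArg _ (Subtype.ext ht)⟩
  refine ⟨(q.quotKerEquivOfSurjective hq).symm ≪≫ₗ Submodule.quotEquivOfEq _ _ hker ≪≫ₗ
    G.quotKerEquivOfSurjective hG, fun r z hz => ?_⟩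
  have : (q.quotKerEquivOfSurjective hq).symm (r ⊗ₜ (B.comap Z.subtype).mkQ z) =
      Submodule.Quotient.mk (r ⊗ₜ z) := (LinearEquiv.symm_apply_eq _).2 rfl
  simp only [LinearEquiv.trans_apply, this]
  rfl

end Groth.Hoch71
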